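import Cfsg.Agent.H618.AO.DiagE6
import Cfsg.Agent.S1063

/-!
# `AutOdd (E₆(q))`, `q` odd (helper618, task AO-E6 of helper561)
-/

set_option autoImplicit false

namespace Cfsg.Agent.H618.AO

open Cfsg Cfsg.Lie Subgroup
open Cfsg.Agent.H79.FieldAuts
open Cfsg.Agent.H561.RV

/-- the orders of `E₆(q₀ ^ m)` and `E₆(q₀)`, `m` odd -/
theorem ratio_e6 {F₀ F : Type} [Field F₀] [Field F] [Fintype F₀] [Fintype F] {m : ℕ} (hm : Odd m)
    (hc : Fintype.card F = Fintype.card F₀ ^ m) (hodd : Odd (Fintype.card F₀)) :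
    ∃ u v : ℕ, Odd v ∧ Nat.card ↥(chevE6.group F) * u = Nat.card ↥(chevE6.group F₀) * v := by
  set q := Fintype.card F₀ with hq
  have h1 := S1063.result (F := F) hc
  have h2 := S1063.result (F := F₀) hq.symm
  obtain ⟨s2, o2, e2⟩ := geom_odd' hodd hm 2
  obtain ⟨s5, o5, e5⟩ := geom_odd' hodd hm 5
  obtain ⟨s6, o6, e6⟩ := geom_odd' hodd hm 6
  obtain ⟨s8, o8, e8⟩ := geom_odd' hodd hm 8
  obtain ⟨s9, o9, e9⟩ := geom_odd' hodd hm 9
  obtain ⟨s12, o12, e12⟩ := geom_odd' hodd hm 12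
  rw [e2, e5, e6, e8, e9, e12] at h1
  refine ⟨Nat.gcd 3 (q ^ m - 1) * q ^ 36, Nat.gcd 3 (q - 1) * (q ^ m) ^ 36 * (s2 * s5 * s6 * s8 * s9 * s12), ?_, ?_⟩
  · have h3 : Odd (Nat.gcd 3 (q - 1)) := Odd.of_dvd_nat (by decide : Odd 3) (Nat.gcd_dvd_left _ _)
    exact (h3.mul hodd.pow.pow).mul (((((o2.mul o5).mul o6).mul o8).mul o9).mul o12)
  · calc Nat.card ↥(chevE6.group F) * (Nat.gcd 3 (q ^ m - 1) * q ^ 36)
        = (Nat.gcd 3 (q ^ m - 1) * Nat.card ↥(chevE6.group F)) * q ^ 36 := by ring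
      _ = (Nat.gcd 3 (q - 1) * Nat.card ↥(chevE6.group F₀)) * ((q ^ m) ^ 36 * (s2 * s5 * s6 * s8 * s9 * s12)) := by
          rw [h1, h2]; ring
      _ = _ := by ring

/-- **`AutOdd (E₆(q))`, `q` odd** -/
theorem autOdd_e6 {F : Type} [Field F] [Fintype F] (hodd : Odd (Fintype.card F)) :
    AutOdd (Cfsg.Lie.chevE6.group F) := by
  have hp : ringChar F ≠ 2 := by
    intro h
    have h1 := FiniteField.even_card_iff_char_two.1 h
    rw [Nat.odd_iff] at hodd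
    omega
  obtain ⟨P, hP⟩ := diag_e6 (F := F) hp
  refine autOdd_chev hE6 (fun h => absurd (congrArg ChevalleyDatum.rank h) (by decide)) P (fun σ hσ => ?_) (fun α hα _ => hP hα)
  obtain ⟨F₀, h1, h2⟩ := exists_fix σ
  have : Fintype F₀ := Fintype.ofFinite _
  rw [Nat.card_eq_fintype_card, Nat.card_eq_fintype_card] at h2
  have h3 : Odd (Fintype.card F₀) := by
    have h4 : Odd (Fintype.card F₀ ^ orderOf σ) := h2 ▸ hodd
    exact (Nat.odd_pow_iff hσ.pos.ne').1 h4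
  obtain ⟨u, v, hv, huv⟩ := ratio_e6 hσ h2 h3
  obtain ⟨Q, hQ⟩ := exists_cen_field F₀.subtype hE6 h1 hv huv
  exact cen_le P Q hQ

end Cfsg.Agent.H618.AO
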