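import Cfsg.Agent.H618.AO.Lay
import Cfsg.Agent.ChevStructure.FieldMap

/-!
# Field automorphisms of odd order of the Chevalley groups centralise a Sylow `2`-subgroup (helper618)

* `iota` : `D.group F₀ → D.group F` for a homomorphism of fields;
* `exists_cen_field` : `σ` of odd order, `|G(F)|_2 = |G(F₀)|_2` (`F₀` any field with a homomorphism to the fixed field of `σ`).
* `exists_fix` : the fixed field, `|F| = |F₀| ^ orderOf σ`.
* `geom_odd` : `q₀ ^ (m d) - 1 = (q₀ ^ d - 1) s`, `s` odd.
-/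

set_option autoImplicit false

namespace Cfsg.Agent.H618.AO

open Cfsg Cfsg.Lie Subgroup
open Cfsg.Agent.ChevalleyStructure
open Cfsg.Agent.ChevalleyStructure.Elts
open Cfsg.Agent.H79
open Cfsg.Agent.H79.SimpleGen
open Cfsg.Agent.H79.FieldAuts
open Cfsg.Agent.H79.OutChev
open Cfsg.Agent.H561.RV
open Cfsg.Agent.ChevStructure.FieldMap (x_map xMat_map)

/-- a subgroup of odd index contains a Sylow `2`-subgroup -/
theorem exists_sylow_le {S : Type*} [Group S] [Finite S] {H : Subgroup S} (h : Odd H.index) :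
    ∃ P : Sylow 2 S, (P : Subgroup S) ≤ H := by
  obtain ⟨Q⟩ : Nonempty (Sylow 2 H) := inferInstance
  have h1 : ¬ 2 ∣ ((Q : Subgroup H).map H.subtype).index := by
    rw [index_map_subtype]
    intro hd
    rcases (Nat.prime_two.dvd_mul).1 hd with h2 | h2
    · exact Q.not_dvd_index h2
    · exact (Nat.not_even_iff_odd.2 h) (even_iff_two_dvd.2 h2)
  exact ⟨(Q.isPGroup'.map H.subtype).toSylow h1, map_subtype_le _⟩

section iota

variable {F₀ F : Type} [Field F₀] [Field F] (D : ChevalleyDatum) (f : F₀ →+* F)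

theorem map_mem {g : GL D.Idx F₀} (hg : g ∈ D.group F₀) : Matrix.GeneralLinearGroup.map f g ∈ D.group F := by
  have h1 : D.group F₀ ≤ (D.group F).comap (Matrix.GeneralLinearGroup.map f) := by
    unfold ChevalleyDatum.group
    rw [closure_le]
    rintro g ⟨r, t, hg⟩
    refine subset_closure ⟨r, f t, ?_⟩
    rw [← xMat_map, ← hg]
    rfl
  exact h1 hg

/-- `D.group F₀ → D.group F` -/
def iota : ↥(D.group F₀) →* ↥(D.group F) :=
  ((Matrix.GeneralLinearGroup.map f).comp (D.group F₀).subtype).codRestrict (D.group F) (fun g => map_mem D f g.2)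

theorem iota_injective : Function.Injective (iota D f) := by
  intro a b hab
  have h1 : Matrix.GeneralLinearGroup.map f (a : GL D.Idx F₀) = Matrix.GeneralLinearGroup.map f (b : GL D.Idx F₀) :=
    congrArg Subtype.val hab
  apply Subtype.ext
  apply Units.ext
  ext i j
  have h2 := congrArg (fun g : GL D.Idx F => (g : Matrix D.Idx D.Idx F) i j) h1
  exact f.injective h2

variable {D}

theorem iota_xS (hD : InList D) (r : ℕ) (t : F₀) : iota D f (xS hD r t) = xS hD r (f t) := by
  rw [eq_xS_iff]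
  show (((xS hD r t : ↥(D.group F₀)) : GL D.Idx F₀) : Matrix D.Idx D.Idx F₀).map f = _
  rw [mat_xS, x_map]

/-- the field automorphism fixes `D.group F₀` -/
theorem field_iota (hD : InList D) {σ : RingAut F} (hσ : ∀ t : F₀, σ (f t) = f t) (g : ↥(D.group F₀)) :
    fieldHom hD F σ (iota D f g) = iota D f g := by
  have h1 : ((fieldHom hD F σ : MulAut _).toMonoidHom.comp (iota D f)) = iota D f := by
    apply hom_ext hD
    · intro i hi t
      show fieldHom hD F σ (iota D f _) = _
      rw [iota_xS, fieldHom_xS hD σ (simple_lt hD hi), hσ]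
    · intro i hi t
      show fieldHom hD F σ (iota D f _) = _
      rw [iota_xS, fieldHom_xS hD σ (neg_simple_lt hD hi), hσ]
  exact DFunLike.congr_fun h1 g

/-- **a field automorphism centralises a Sylow `2`-subgroup** -/
theorem exists_cen_field [Finite F] (hD : InList D) {σ : RingAut F} (hσ : ∀ t : F₀, σ (f t) = f t) {u v : ℕ}
    (hv : Odd v) (huv : Nat.card ↥(D.group F) * u = Nat.card ↥(D.group F₀) * v) :
    ∃ Q : Sylow 2 ↥(D.group F), fieldHom hD F σ ∈ cen Q := by
  have hF₀ : Finite F₀ := Finite.of_injective f f.injective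
  have hi : Odd (iota D f).range.index := by
    have h1 : Nat.card ↥(D.group F₀) = Nat.card ↥(iota D f).range :=
      Nat.card_congr (MonoidHom.ofInjective (iota_injective D f)).toEquiv
    rw [← card_mul_index (iota D f).range, h1, mul_assoc] at huv
    have h2 := Nat.eq_of_mul_eq_mul_left Nat.card_pos huv
    exact Odd.of_dvd_nat hv ⟨u, h2.symm⟩
  obtain ⟨Q, hQ⟩ := exists_sylow_le hi
  refine ⟨Q, fun x hx => ?_⟩
  obtain ⟨g, rfl⟩ := hQ hx
  exact field_iota f hD hσ g

end iota

/-- the fixed field -/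
theorem exists_fix {F : Type} [Field F] [Finite F] (σ : RingAut F) :
    ∃ F₀ : Subfield F, (∀ t : F₀, σ (F₀.subtype t) = F₀.subtype t) ∧ Nat.card F = Nat.card F₀ ^ orderOf σ := by
  have hfin : Finite (RingAut F) := Finite.of_injective (fun f : RingAut F => (f : F → F)) DFunLike.coe_injective
  have := Fintype.ofFinite ↥(Subgroup.zpowers σ)
  refine ⟨FixedPoints.subfield ↥(Subgroup.zpowers σ) F, fun t => ?_, ?_⟩
  · exact t.2 ⟨σ, mem_zpowers σ⟩
  · have h1 := FixedPoints.finrank_eq_card ↥(Subgroup.zpowers σ) F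
    rw [Module.natCard_eq_pow_finrank (K := FixedPoints.subfield ↥(Subgroup.zpowers σ) F) (V := F), h1,
      ← Nat.card_eq_fintype_card, Nat.card_zpowers]

theorem geom_odd {a m : ℕ} (ha : Odd a) (hm : Odd m) : ∃ s, Odd s ∧ a ^ m - 1 = (a - 1) * s := by
  refine ⟨∑ i ∈ Finset.range m, a ^ i, ?_, ?_⟩
  · rw [Finset.odd_sum_iff_odd_card_odd, Finset.filter_true_of_mem (fun i _ => ha.pow), Finset.card_range]
    exact hm
  · obtain ⟨x, rfl⟩ : ∃ x, a = x + 1 := ⟨a - 1, (Nat.sub_add_cancel ha.pos).symm⟩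
    have h1 := geom_sum_mul_add x m
    rw [← h1, Nat.add_sub_cancel, Nat.add_sub_cancel, mul_comm]

theorem geom_odd' {q₀ m : ℕ} (hq : Odd q₀) (hm : Odd m) (d : ℕ) :
    ∃ s, Odd s ∧ (q₀ ^ m) ^ d - 1 = (q₀ ^ d - 1) * s := by
  rw [← pow_mul, mul_comm m d, pow_mul]
  exact geom_odd hq.pow hm

end Cfsg.Agent.H618.AO
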