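import Cfsg.Agent.H618.AO.Levi
import Cfsg.Agent.H618.AO.Fld
import Cfsg.Agent.Nodes.RGDChev
import Cfsg.Agent.KFacts.RgdFilt
import Cfsg.Agent.ChevalleyStructure.BruhatSplit

/-!
# The diagonal automorphisms of `E₆(q)`, `q` odd, centralise a Sylow `2`-subgroup modulo inner automorphisms (helper618)
-/

set_option autoImplicit false

namespace Cfsg.Agent.H618.AO

open Cfsg Cfsg.Lie Subgroup
open Cfsg.Agent.ChevalleyStructure
open Cfsg.Agent.ChevalleyStructure.Elts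
open Cfsg.Agent.H79
open Cfsg.Agent.H79.SimpleGen
open Cfsg.Agent.H79.FieldAuts
open Cfsg.Agent.H79.OutChev
open Cfsg.Agent.H561.RV
open Cfsg.Agent.Nodes.RGDChev
open Cfsg.Agent.Tits.Roots (sr)

section inn

variable {D : ChevalleyDatum} (hD : InList D) (F : Type) [Field F]

/-- the scalings realised by inner automorphisms -/
def innT : Subgroup (Fin D.rank → Fˣ) where
  carrier := {c | ∃ g : ↥(D.group F), IsD hD c (MulAut.conj g)}
  one_mem' := ⟨1, by rw [map_one]; exact IsD.one hD⟩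
  mul_mem' := by
    rintro c d ⟨g, hg⟩ ⟨k, hk⟩
    exact ⟨g * k, by rw [map_mul]; exact hg.mul hk⟩
  inv_mem' := by
    rintro c ⟨g, hg⟩
    exact ⟨g⁻¹, by rw [map_inv]; exact hg.inv⟩

variable {F}

theorem simple_mem_innT (i : Fin D.rank) (u : Fˣ) : (fun j : Fin D.rank => u ^ D.cartan i (D.simple j)) ∈ innT hD F := by
  refine ⟨⟨hG hD (D.simple i) (u : F), hG_mem_group hD _ _⟩, fun j t => ?_⟩
  have h1 := BruhatSplit.hG_simple_conj hD i.2 (simple_lt hD j.2) u.ne_zero t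
  have h2 := BruhatSplit.hG_simple_conj hD i.2 (neg_simple_lt hD j.2) u.ne_zero t
  constructor
  · apply Subtype.ext
    refine h1.trans ?_
    rw [Units.val_zpow_eq_zpow_val]
    rfl
  · apply Subtype.ext
    refine h2.trans ?_
    have h3 : D.cartan i (D.neg (D.simple j)) = -D.cartan i (D.simple j) :=
      RootVec.cartan_neg (RootVecTab.checked_of_mem hD) i.2 (simple_lt hD j.2)
    rw [h3, zpow_neg, ← Units.val_zpow_eq_zpow_val, ← Units.val_inv_eq_inv_val]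
    rfl

theorem prod_mem_innT (t : Fin D.rank → Fˣ) :
    (fun j : Fin D.rank => ∏ i : Fin D.rank, t i ^ D.cartan i (D.simple j)) ∈ innT hD F := by
  have h1 : (fun j : Fin D.rank => ∏ i : Fin D.rank, t i ^ D.cartan i (D.simple j)) =
      ∏ i : Fin D.rank, fun j : Fin D.rank => t i ^ D.cartan i (D.simple j) := by
    funext j
    rw [Finset.prod_apply]
  rw [h1]
  exact prod_mem fun i _ => simple_mem_innT hD i (t i)

/-- a diagonal element is centralised by the diagonal automorphisms -/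
theorem diag_fix {α : MulAut ↥(D.group F)} (hα : α ∈ diagSub hD F) {t : ↥(D.group F)}
    (ht : (t : GL D.Idx F) ∈ D.diagonalSubgroup F) : α t = t := by
  obtain ⟨c, hc⟩ := hα
  obtain ⟨χ, hχ, rfl⟩ := CharDiag.eq_diagAut hD ((DiagAuts.diagFacts hD F).isDiag c α hc)
  obtain ⟨ψ, hψ⟩ := HMatDiagAll.mem_torus.1 (HMatDiagAll.diagonalSubgroup_le_torus hD ht)
  apply Subtype.ext
  rw [CharDiag.coe_diagAut, mul_inv_eq_iff_eq_mul]
  apply Units.ext
  rw [Units.val_mul, Units.val_mul, CharDiag.coe_hatG, hψ]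
  unfold ChevalleyDatum.charDiag
  rw [Matrix.diagonal_mul_diagonal, Matrix.diagonal_mul_diagonal]
  congr 1
  funext i
  exact mul_comm _ _

end inn

section e6

/-- the Cartan matrix -/
def aE6 : List (List ℤ) :=
  [[2, 0, -1, 0, 0, 0], [0, 2, 0, -1, 0, 0], [-1, 0, 2, -1, 0, 0], [0, -1, -1, 2, -1, 0], [0, 0, 0, -1, 2, -1], [0, 0, 0, 0, -1, 2]]

theorem aE6_ok : ∀ i j : Fin 6, (aE6.getD i []).getD j 0 = CoxeterGeomTypes.cartanOf chevE6 6 i j := by decide +kernel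

/-- the orbit of the first fundamental weight -/
def tE6 : List (List ℤ × List (Fin 6)) :=
   [([1, 0, 0, 0, 0, 0], []),
    ([-1, 0, 1, 0, 0, 0], [0]),
    ([0, 0, -1, 1, 0, 0], [0, 2]),
    ([0, 1, 0, -1, 1, 0], [0, 2, 3]),
    ([0, -1, 0, 0, 1, 0], [0, 2, 3, 1]),
    ([0, 1, 0, 0, -1, 1], [0, 2, 3, 4]),
    ([0, -1, 0, 1, -1, 1], [0, 2, 3, 1, 4]),
    ([0, 1, 0, 0, 0, -1], [0, 2, 3, 4, 5]),
    ([0, 0, 1, -1, 0, 1], [0, 2, 3, 1, 4, 3]),
    ([0, -1, 0, 1, 0, -1], [0, 2, 3, 1, 4, 5]),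
    ([1, 0, -1, 0, 0, 1], [0, 2, 3, 1, 4, 3, 2]),
    ([0, 0, 1, -1, 1, -1], [0, 2, 3, 1, 4, 3, 5]),
    ([-1, 0, 0, 0, 0, 1], [0, 2, 3, 1, 4, 3, 2, 0]),
    ([1, 0, -1, 0, 1, -1], [0, 2, 3, 1, 4, 3, 2, 5]),
    ([0, 0, 1, 0, -1, 0], [0, 2, 3, 1, 4, 3, 5, 4]),
    ([-1, 0, 0, 0, 1, -1], [0, 2, 3, 1, 4, 3, 2, 0, 5]),
    ([1, 0, -1, 1, -1, 0], [0, 2, 3, 1, 4, 3, 2, 5, 4]),
    ([-1, 0, 0, 1, -1, 0], [0, 2, 3, 1, 4, 3, 2, 0, 5, 4]),
    ([1, 1, 0, -1, 0, 0], [0, 2, 3, 1, 4, 3, 2, 5, 4, 3]),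
    ([-1, 1, 1, -1, 0, 0], [0, 2, 3, 1, 4, 3, 2, 0, 5, 4, 3]),
    ([1, -1, 0, 0, 0, 0], [0, 2, 3, 1, 4, 3, 2, 5, 4, 3, 1]),
    ([-1, -1, 1, 0, 0, 0], [0, 2, 3, 1, 4, 3, 2, 0, 5, 4, 3, 1]),
    ([0, 1, -1, 0, 0, 0], [0, 2, 3, 1, 4, 3, 2, 0, 5, 4, 3, 2]),
    ([0, -1, -1, 1, 0, 0], [0, 2, 3, 1, 4, 3, 2, 0, 5, 4, 3, 1, 2]),
    ([0, 0, 0, -1, 1, 0], [0, 2, 3, 1, 4, 3, 2, 0, 5, 4, 3, 1, 2, 3]),
    ([0, 0, 0, 0, -1, 1], [0, 2, 3, 1, 4, 3, 2, 0, 5, 4, 3, 1, 2, 3, 4]),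
    ([0, 0, 0, 0, 0, -1], [0, 2, 3, 1, 4, 3, 2, 0, 5, 4, 3, 1, 2, 3, 4, 5])]

theorem tE6_ok : H81.PJTab.chk 6 aE6 [0, 1, 2, 3, 4, 5] [1, 0, 0, 0, 0, 0] tE6 = true := by decide +kernel

theorem tE6_odd : Odd tE6.length := by decide

/-- the inverse -/
def bE6 (i k : ℕ) : ℤ := ([[0, 1, 3, 2, 4, 2], [0, 2, 3, 3, 4, 2], [0, 2, 5, 4, 6, 3], [0, 3, 6, 6, 8, 4],
  [0, 2, 4, 4, 6, 3], [0, 1, 2, 2, 3, 2]].getD i []).getD k 0

theorem bE6_ok : ∀ j k : Fin chevE6.rank, (j : ℕ) ≠ 0 →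
    ∑ i : Fin chevE6.rank, bE6 i k * chevE6.cartan i (chevE6.simple j) = if k = j then 1 else 0 := by decide +kernel

theorem hE6 : InList chevE6 := by simp [InList]

theorem typeE6 : IsType chevE6 6 CoxeterMatrix.E₆ := by simp [IsType, typeList]

variable {F : Type} [Field F]

/-- every scaling is a scaling at the first node times an inner one -/
theorem exists_inn (c : Fin chevE6.rank → Fˣ) :
    ∃ c' ∈ innT hE6 F, ∀ j : Fin chevE6.rank, (j : ℕ) ≠ 0 → c' j = c j := by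
  refine ⟨_, prod_mem_innT hE6 (fun i => ∏ k : Fin chevE6.rank, c k ^ bE6 i k), fun j hj => ?_⟩
  have h1 : ∀ i : Fin chevE6.rank, (∏ k : Fin chevE6.rank, c k ^ bE6 i k) ^ chevE6.cartan i (chevE6.simple j) =
      ∏ k : Fin chevE6.rank, c k ^ (bE6 i k * chevE6.cartan i (chevE6.simple j)) := by
    intro i
    rw [← Finset.prod_zpow]
    exact Finset.prod_congr rfl fun k _ => (zpow_mul _ _ _).symm
  simp only [h1]
  rw [Finset.prod_comm]
  have h2 : ∀ k : Fin chevE6.rank, ∏ i : Fin chevE6.rank, c k ^ (bE6 i k * chevE6.cartan i (chevE6.simple j)) =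
      c k ^ (if k = j then (1 : ℤ) else 0) := by
    intro k
    rw [← bE6_ok j k hj]
    exact (map_sum (zmultiplesHom (Additive Fˣ) (Additive.ofMul (c k))) _ _).symm
  simp only [h2]
  rw [Finset.prod_eq_single j]
  · simp
  · intro k _ hk
    simp [hk]
  · intro h
    exact absurd (Finset.mem_univ j) h

/-- the index set of the `D₅`-parabolic subgroup -/
abbrev jE6 : Set (Fin 6) := {i | H81.PJTab.toF 6 [1, 0, 0, 0, 0, 0] i = 0}

theorem ne_of_mem_jE6 {j : Fin 6} (hj : j ∈ jE6) : (j : ℕ) ≠ 0 := by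
  intro h0
  have h1 : j = 0 := Fin.ext h0
  subst h1
  have h2 : H81.PJTab.toF 6 [1, 0, 0, 0, 0, 0] 0 = 0 := hj
  exact absurd h2 (by decide)

/-- **the diagonal automorphisms of `E₆(q)`** -/
theorem diag_e6 [Finite F] (hodd : ringChar F ≠ 2) :
    ∃ P : Sylow 2 ↥(chevE6.group F), diagSub hE6 F ≤ cen P ⊔ Inn ↥(chevE6.group F) := by
  classical
  have hp : Fact (ringChar F).Prime := ⟨CharP.char_is_prime F (ringChar F)⟩
  have hfW := finite_W typeE6 CoxeterMatrix.E₆.toCoxeterSystem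
  have R := rgd (K := F) typeE6 CoxeterMatrix.E₆.toCoxeterSystem (ringChar F)
  have hG := KFacts.RgdFilt.GG_eq_top (T := (chevE6.diagonalSubgroup F).subgroupOf (chevE6.group F))
    (G1_eq_top (K := F) typeE6 CoxeterMatrix.E₆.toCoxeterSystem)
  have hidx := odd_index_LJ R hodd hG aE6_ok (J := [0, 1, 2, 3, 4, 5]) (by decide) tE6_ok tE6_odd
  obtain ⟨P, hP⟩ := exists_sylow_le hidx
  refine ⟨P, ?_⟩
  rintro α ⟨c, hα⟩
  obtain ⟨c', ⟨g, hg⟩, hcc⟩ := exists_inn c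
  -- `β` fixes the Levi subgroup
  have hβ : IsD hE6 (c * c'⁻¹) (α * (MulAut.conj g)⁻¹) := hα.mul hg.inv
  have hβP : α * (MulAut.conj g)⁻¹ ∈ cen P := by
    let Z : Subgroup ↥(chevE6.group F) :=
      (α * (MulAut.conj g)⁻¹ : MulAut ↥(chevE6.group F)).toMonoidHom.eqLocus (MonoidHom.id _)
    have hZ : ∀ y, y ∈ Z ↔ (α * (MulAut.conj g)⁻¹) y = y := fun _ => Iff.rfl
    have hle := LJ_le_of R (Z := Z) (J := jE6)
      (fun t ht => (hZ t).2 (diag_fix hE6 ⟨_, hβ⟩ (Subgroup.mem_subgroupOf.1 ht))) (fun j hj => ?_)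
    · intro x hx
      exact hle (hP hx)
    · have h0 : ∀ k : Fin chevE6.rank, (k : ℕ) ≠ 0 → (c * c'⁻¹) k = 1 := by
        intro k hk
        rw [Pi.mul_apply, Pi.inv_apply, hcc k hk, mul_inv_cancel]
      obtain ⟨k, hk⟩ : ∃ k : Fin chevE6.rank, k = j := ⟨j, rfl⟩
      have hkj : (k : ℕ) = j := congrArg Fin.val hk
      have h1 : (c * c'⁻¹) k = 1 := h0 k (hkj ▸ ne_of_mem_jE6 hj)
      constructor
      · intro y hy
        rw [Subgroup.mem_subgroupOf, XV_sr typeE6, mem_rootSubgroup_iff hE6] at hy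
        obtain ⟨t, ht⟩ := hy
        have h2 : y = xS hE6 (chevE6.simple k) t := by rw [hkj]; exact Subtype.ext ht
        rw [hZ, h2, (hβ k t).1, h1, Units.val_one, one_mul]
      · intro y hy
        rw [Subgroup.mem_subgroupOf, XV_neg_sr typeE6, mem_rootSubgroup_iff hE6] at hy
        obtain ⟨t, ht⟩ := hy
        have h2 : y = xS hE6 (chevE6.neg (chevE6.simple k)) t := by rw [hkj]; exact Subtype.ext ht
        rw [hZ, h2, (hβ k t).2, h1, inv_one, Units.val_one, one_mul]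
  have h3 : α = (α * (MulAut.conj g)⁻¹) * MulAut.conj g := by group
  rw [h3]
  exact mul_mem ((le_sup_left : cen P ≤ _) hβP) ((le_sup_right : Inn _ ≤ cen P ⊔ Inn _) ⟨g, rfl⟩)

end e6

end Cfsg.Agent.H618.AO
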