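import Cfsg.Agent.H561.RV.AutCrit
import Cfsg.Agent.H79.Steinberg
import Cfsg.Agent.H79.DiagSymm

/-!
# `AutOdd` for the Chevalley groups: the layers (helper618)

`cen P` = the automorphisms centralising the Sylow `2`-subgroup `P` (`cen P ⊔ Inn` does not depend on `P`).
* `autOdd_chev` : `AutOdd (D.group F)`, `D ≠ D₄`, if every field automorphism of odd order centralises a Sylow `2`-subgroup and every
  diagonal automorphism of odd order is in `cen P ⊔ Inn`.
-/

set_option autoImplicit false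

namespace Cfsg.Agent.H618.AO

open Cfsg Cfsg.Lie Subgroup
open Cfsg.Agent.ChevalleyStructure
open Cfsg.Agent.ChevalleyStructure.Elts
open Cfsg.Agent.H79
open Cfsg.Agent.H79.SimpleGen
open Cfsg.Agent.H79.FieldAuts
open Cfsg.Agent.H79.OutChev
open Cfsg.Agent.H561.RV
open scoped Pointwise

section abs

variable {S : Type*} [Group S]

/-- the automorphisms centralising `P` -/
def cen (P : Sylow 2 S) : Subgroup (MulAut S) where
  carrier := {φ | ∀ x ∈ P, φ x = x}
  one_mem' := fun _ _ => rfl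
  mul_mem' := by
    intro φ ψ h1 h2 x hx
    rw [MulAut.mul_apply, h2 x hx, h1 x hx]
  inv_mem' := by
    intro φ h x hx
    show φ⁻¹ x = x
    conv_lhs => rw [← h x hx]
    exact MulAut.inv_apply_self S φ x

theorem mem_cen {P : Sylow 2 S} {φ : MulAut S} : φ ∈ cen P ↔ ∀ x ∈ P, φ x = x := Iff.rfl

/-- `C Inn` does not depend on the Sylow `2`-subgroup -/
theorem cen_le [Finite S] (P Q : Sylow 2 S) : cen Q ≤ cen P ⊔ Inn S := by
  intro φ hφ
  obtain ⟨g, hg⟩ := MulAction.exists_smul_eq S Q P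
  have h1 : MulAut.conj g * φ * (MulAut.conj g)⁻¹ ∈ cen P := by
    intro x hx
    rw [← hg] at hx
    have hx' : x ∈ MulAut.conj g • (Q : Subgroup S) := by
      rw [← Sylow.coe_subgroup_smul]; exact hx
    rw [Subgroup.mem_pointwise_smul_iff_inv_smul_mem] at hx'
    have h2 : φ ((MulAut.conj g)⁻¹ x) = (MulAut.conj g)⁻¹ x := hφ _ hx'
    rw [MulAut.mul_apply, MulAut.mul_apply, h2, MulAut.apply_inv_self]
  have hn : (Inn S).Normal := inferInstance
  -- `φ = (g φ g⁻¹) (commutator)`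
  have h3 : φ = (MulAut.conj g * φ * (MulAut.conj g)⁻¹) * (MulAut.conj g * φ⁻¹ * (MulAut.conj g)⁻¹ * φ) := by group
  rw [h3]
  refine mul_mem ((le_sup_left : cen P ≤ _) h1) ((le_sup_right : Inn S ≤ cen P ⊔ Inn S) ?_)
  have h4 : MulAut.conj g * φ⁻¹ * (MulAut.conj g)⁻¹ * φ = MulAut.conj g * (φ⁻¹ * (MulAut.conj g)⁻¹ * φ⁻¹⁻¹) := by group
  rw [h4]
  exact mul_mem ⟨g, rfl⟩ (hn.conj_mem _ (inv_mem ⟨g, rfl⟩) φ⁻¹)

/-- some `2`-power has odd order -/
theorem exists_odd {A : Type*} [Group A] [Finite A] (a : A) : ∃ n : ℕ, Odd (orderOf (a ^ 2 ^ n)) := by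
  obtain ⟨k, m, hm, ho⟩ := Nat.exists_eq_two_pow_mul_odd (n := orderOf a) (orderOf_pos a).ne'
  refine ⟨k, ?_⟩
  rw [orderOf_pow_of_dvd (pow_ne_zero _ two_ne_zero) (ho ▸ dvd_mul_right _ _), ho, Nat.mul_div_cancel_left m (Nat.two_pow_pos k)]
  exact hm

/-- powers modulo a normal subgroup -/
theorem mul_pow_mod {A : Type*} [Group A] (N : Subgroup A) [N.Normal] {a b : A} (ha : a ∈ N) (k : ℕ) :
    ∃ c ∈ N, (a * b) ^ k = c * b ^ k := by
  refine ⟨(a * b) ^ k * (b ^ k)⁻¹, ?_, by group⟩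
  rw [← QuotientGroup.eq_one_iff]
  have h1 : ((a * b : A) : A ⧸ N) = (b : A ⧸ N) := by
    rw [QuotientGroup.mk_mul, (QuotientGroup.eq_one_iff a).2 ha, one_mul]
  rw [QuotientGroup.mk_mul, QuotientGroup.mk_pow, h1, QuotientGroup.mk_inv, QuotientGroup.mk_pow, mul_inv_cancel]

end abs

section lay

variable {A : Type*} [Group A] {I Δ Φ : Subgroup A} {Γ : Set A} [hI : I.Normal]

/-- commutators are in the diagonal layer, if there are at most two graph automorphisms -/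
theorem comm_mem (h : OutAbs.Data I Δ Φ Γ) (g₀ : A) (hΓ : ∀ g ∈ Γ, g = 1 ∨ g = g₀) (x y : A ⧸ I) :
    x * y * x⁻¹ * y⁻¹ ∈ OutAbs.Dbar I Δ := by
  have hn := OutAbs.Dbar_normal h
  obtain ⟨θ, rfl⟩ := QuotientGroup.mk'_surjective I x
  obtain ⟨θ', rfl⟩ := QuotientGroup.mk'_surjective I y
  obtain ⟨i, hi, d, hd, g, hg, f, hf, rfl⟩ := h.fac θ
  obtain ⟨i', hi', d', hd', g', hg', f', hf', rfl⟩ := h.fac θ'
  set m := (QuotientGroup.mk' (OutAbs.Dbar I Δ)).comp (QuotientGroup.mk' I) with hm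
  have hmi : ∀ i ∈ I, m i = 1 := fun i hi => by
    rw [hm, MonoidHom.comp_apply, OutAbs.mk_eq_one hi, map_one]
  have hmd : ∀ d ∈ Δ, m d = 1 := fun d hd => by
    rw [hm, MonoidHom.comp_apply]
    exact (QuotientGroup.eq_one_iff _).2 (OutAbs.mk_mem_Dbar hd)
  have hcyc := h.cyc
  have hff : f * f' = f' * f := by
    have hc : ∀ a b : ↥Φ, a * b = b * a := by
      let _ := IsCyclic.commGroup (α := ↥Φ)
      exact fun a b => mul_comm a b
    exact congrArg Subtype.val (hc ⟨f, hf⟩ ⟨f', hf'⟩)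
  have hgg : g * g' = g' * g := by
    rcases hΓ g hg with rfl | rfl
    · simp
    · rcases hΓ g' hg' with rfl | rfl
      · simp
      · rfl
  have h1 : g * f' = f' * g := h.commΓ g hg f' hf'
  have h2 : g' * f = f * g' := h.commΓ g' hg' f hf
  have key : (g * f) * (g' * f') * (g * f)⁻¹ * (g' * f')⁻¹ = 1 := by
    rw [mul_inv_eq_one, mul_inv_eq_iff_eq_mul]
    calc g * f * (g' * f') = g * (f * g') * f' := by group
      _ = g * g' * (f * f') := by rw [← h2]; group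
      _ = g' * (g * f') * f := by rw [hgg, hff]; group
      _ = g' * f' * (g * f) := by rw [h1]; group
  rw [← QuotientGroup.eq_one_iff]
  have e : ((QuotientGroup.mk' I (i * d * g * f) * QuotientGroup.mk' I (i' * d' * g' * f') *
      (QuotientGroup.mk' I (i * d * g * f))⁻¹ * (QuotientGroup.mk' I (i' * d' * g' * f'))⁻¹ : A ⧸ I) :
      (A ⧸ I) ⧸ OutAbs.Dbar I Δ) = m ((g * f) * (g' * f') * (g * f)⁻¹ * (g' * f')⁻¹) := by
    change m (i * d * g * f) * m (i' * d' * g' * f') * (m (i * d * g * f))⁻¹ * (m (i' * d' * g' * f'))⁻¹ = _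
    simp only [map_mul, hmi i hi, hmi i' hi', hmd d hd, hmd d' hd', one_mul, map_inv]
  rw [e, key, map_one]

end lay

section main

variable {F : Type} [Field F] {D : ChevalleyDatum}

/-- at most two graph automorphisms -/
theorem exists_graph0 (hD : InList D) (hD4 : D ≠ chevD4) :
    ∃ g₀ : MulAut ↥(D.group F), ∀ g ∈ {g : MulAut ↥(D.group F) | D.IsGraphAut g}, g = 1 ∨ g = g₀ := by
  have hD' : D ∈ [chevG2, chevB2, chevF4, chevE6, chevE7, chevE8] := by
    have := hD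
    simp only [List.mem_cons, List.not_mem_nil, or_false] at this ⊢
    tauto
  by_cases hex : ∃ g₀ : MulAut ↥(D.group F), D.IsGraphAut g₀ ∧ g₀ ≠ 1
  · obtain ⟨g₀, hg₀, hne⟩ := hex
    refine ⟨g₀, fun g hg => ?_⟩
    by_cases hg1 : g = 1
    · exact Or.inl hg1
    · right
      obtain ⟨π, hπs, hπ⟩ := isGraphAut_isGr hD hg
      obtain ⟨ρ, hρs, hρ⟩ := isGraphAut_isGr hD hg₀
      have h1 : π ≠ 1 := by
        rintro rfl
        exact hg1 (isGr_one hπ)
      have h2 : ρ ≠ 1 := by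
        rintro rfl
        exact hne (isGr_one hρ)
      have h3 : π = ρ := DiagSymm.eq_of_ne_one hD' hπs hρs h1 h2
      subst h3
      exact hπ.unique hρ
  · refine ⟨1, fun g hg => ?_⟩
    by_contra hne
    push Not at hne
    exact hex ⟨g, hg, hne.1⟩

set_option maxHeartbeats 1000000 in
/-- **`AutOdd` for the Chevalley groups from the field and the diagonal automorphisms of odd order** -/
theorem autOdd_chev [Finite F] (hD : InList D) (hD4 : D ≠ chevD4) (P : Sylow 2 ↥(D.group F))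
    (hfield : ∀ σ : RingAut F, Odd (orderOf σ) → fieldHom hD F σ ∈ cen P ⊔ Inn ↥(D.group F))
    (hdiag : ∀ α ∈ diagSub hD F, Odd (orderOf α) → α ∈ cen P ⊔ Inn ↥(D.group F)) : AutOdd ↥(D.group F) := by
  have hSf : Finite ↥(D.group F) := inferInstance
  have hfin : Finite (MulAut ↥(D.group F)) :=
    Finite.of_injective (fun f : MulAut ↥(D.group F) => (f : ↥(D.group F) → ↥(D.group F))) DFunLike.coe_injective
  have hRf : Finite (RingAut F) :=
    Finite.of_injective (fun f : RingAut F => (f : F → F)) DFunLike.coe_injective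
  have hE := DiagAuts.diagFacts hD F
  have h := data hE (fun θ => Steinberg.exists_fac hD θ)
  obtain ⟨g₀, hg₀⟩ := exists_graph0 (F := F) hD hD4
  have hcl := closure_isDiagonalAut hE
  set Δ := Subgroup.closure {φ : MulAut ↥(D.group F) | D.IsDiagonalAut φ} with hΔ
  set Φ := Subgroup.closure {φ : MulAut ↥(D.group F) | D.IsFieldAut φ} with hΦ
  have hn := OutAbs.Dbar_normal h
  have hcomm := OutAbs.Dbar_comm h
  have hns := OutAbs.sup_normal h
  have hcm := comm_mem h g₀ hg₀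
  -- solvability
  have hsol : Group.IsSolvable (Out ↥(D.group F)) := by
    rw [Group.isSolvable_iff_subgroup_quotient (OutAbs.Dbar (Inn ↥(D.group F)) Δ)]
    refine ⟨Group.isSolvable_of_comm fun a b => hcomm.is_comm.comm a b, Group.isSolvable_of_comm fun a b => ?_⟩
    obtain ⟨x, rfl⟩ := QuotientGroup.mk'_surjective _ a
    obtain ⟨y, rfl⟩ := QuotientGroup.mk'_surjective _ b
    have h1 := (QuotientGroup.eq_one_iff (N := OutAbs.Dbar (Inn ↥(D.group F)) Δ) _).2 (hcm x y)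
    have h2 : QuotientGroup.mk' (OutAbs.Dbar (Inn ↥(D.group F)) Δ) (x * y * x⁻¹ * y⁻¹) = 1 := h1
    rw [map_mul, map_mul, map_mul, map_inv, map_inv, mul_inv_eq_one, mul_inv_eq_iff_eq_mul] at h2
    exact h2
  -- the diagonal layer
  let L : Subgroup (MulAut ↥(D.group F)) :=
    (OutAbs.Dbar (Inn ↥(D.group F)) Δ).comap (QuotientGroup.mk' (Inn ↥(D.group F)))
  have hL : L.Normal := hn.comap _
  have hIL : Inn ↥(D.group F) ≤ L := by
    intro i hi
    have h1 : QuotientGroup.mk' (Inn ↥(D.group F)) i = 1 := (QuotientGroup.eq_one_iff i).2 hi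
    rw [Subgroup.mem_comap, h1]
    exact one_mem _
  have hΔL : Δ ≤ L := fun d hd => OutAbs.mk_mem_Dbar hd
  refine autOdd_of_layers hsol P (cen P) L (fun φ hφ => hφ) hIL (fun φ ψ => ?_) (fun φ => ?_) (Or.inr ⟨?_, ?_⟩)
  · rw [Subgroup.mem_comap, map_mul, map_mul, map_mul, map_inv, map_inv]
    exact hcm _ _
  · -- `φ ^ 2` is in the layer of the field automorphisms
    have h2 : QuotientGroup.mk' (Inn ↥(D.group F)) φ ^ 2 ∈
        OutAbs.Dbar (Inn ↥(D.group F)) Δ ⊔ OutAbs.Dbar (Inn ↥(D.group F)) Φ := by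
      rcases OutAbs.index_of_two h g₀ hg₀ with h1 | h1
      · rw [Subgroup.index_eq_one.1 h1]; trivial
      · exact Subgroup.sq_mem_of_index_two h1 _
    rw [← map_pow, ← Subgroup.map_sup] at h2
    obtain ⟨y, hy, hyφ⟩ := h2
    have h3 : ∃ δ ∈ L, ∃ f ∈ Φ, φ ^ 2 = δ * f := by
      have h4 : φ ^ 2 ∈ L ⊔ Φ := by
        have h5 : y⁻¹ * φ ^ 2 ∈ Inn ↥(D.group F) := (QuotientGroup.eq (s := Inn ↥(D.group F))).1 hyφ
        have h6 : φ ^ 2 = y * (y⁻¹ * φ ^ 2) := by group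
        rw [h6]
        exact mul_mem (sup_le_sup_right hΔL Φ hy) ((le_sup_left : L ≤ L ⊔ Φ) (hIL h5))
      rw [← SetLike.mem_coe, Subgroup.normal_mul] at h4
      obtain ⟨δ, hδ, f, hf, e⟩ := h4
      exact ⟨δ, hδ, f, hf, e.symm⟩
    obtain ⟨δ, hδ, f, hf, e⟩ := h3
    rw [hΦ, closure_isFieldAut hD] at hf
    obtain ⟨σ, rfl⟩ := hf
    obtain ⟨n, hn'⟩ := exists_odd σ
    obtain ⟨c, hc, hce⟩ := mul_pow_mod L (b := fieldHom hD F σ) hδ (2 ^ n)
    refine ⟨n + 1, ?_⟩
    rw [pow_succ', pow_mul, e, hce, ← map_pow]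
    exact mul_mem ((le_sup_right : L ≤ cen P ⊔ L) hc) (sup_le_sup_left hIL _ (hfield _ hn'))
  · intro φ hφ ψ hψ
    have h1 : QuotientGroup.mk' (Inn ↥(D.group F)) φ ∈ OutAbs.Dbar (Inn ↥(D.group F)) Δ := hφ
    have h2 : QuotientGroup.mk' (Inn ↥(D.group F)) ψ ∈ OutAbs.Dbar (Inn ↥(D.group F)) Δ := hψ
    have h3 := congrArg Subtype.val (hcomm.is_comm.comm ⟨_, h1⟩ ⟨_, h2⟩)
    have h4 : QuotientGroup.mk' (Inn ↥(D.group F)) φ * QuotientGroup.mk' (Inn ↥(D.group F)) ψ =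
      QuotientGroup.mk' (Inn ↥(D.group F)) ψ * QuotientGroup.mk' (Inn ↥(D.group F)) φ := h3
    rw [← QuotientGroup.eq_one_iff]
    show QuotientGroup.mk' (Inn ↥(D.group F)) _ = 1
    rw [map_mul, map_mul, map_mul, map_inv, map_inv, mul_inv_eq_one, mul_inv_eq_iff_eq_mul]
    exact h4
  · intro δ hδ
    obtain ⟨d, hd, hde⟩ := hδ
    obtain ⟨n, hn'⟩ := exists_odd d
    have h5 : δ * d⁻¹ ∈ Inn ↥(D.group F) := by
      rw [← QuotientGroup.eq_one_iff]
      show QuotientGroup.mk' (Inn ↥(D.group F)) _ = 1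
      rw [map_mul, map_inv, hde, mul_inv_cancel]
    obtain ⟨c, hc, hce⟩ := mul_pow_mod (Inn ↥(D.group F)) (b := d) h5 (2 ^ n)
    refine ⟨n, ?_⟩
    rw [inv_mul_cancel_right] at hce
    rw [hce]
    have hd' : d ∈ diagSub hD F := by rw [← hcl]; exact hd
    exact mul_mem ((le_sup_right : Inn ↥(D.group F) ≤ cen P ⊔ Inn ↥(D.group F)) hc) (hdiag _ (pow_mem hd' _) hn')

end main

end Cfsg.Agent.H618.AO
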