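import Cfsg.Agent.H81.PJTab

/-!
# Levi subgroups of odd index (helper618)

* `LJ_le_of` : the Levi subgroup `L_J` is generated by `T` and the root groups `X (± α_j)`, `j ∈ J`;
* `sum_tab_eq` : `∑_{w ∈ W_J} |U_w| = (∑_{v ∈ W_K} |U_v|) (∑ table)`;
* `odd_index_LJ` : `L_K` has odd index if `p` is odd and the table of representatives of `W_K \ W` has odd length.
-/

set_option autoImplicit false
set_option linter.unusedSectionVars false

namespace Cfsg.Agent.H618.AO

open CoxeterSystem Cfsg.Agent.ChevalleyStructure.CoxeterGeom Cfsg.Agent.Tits.Roots Cfsg.Agent.Tits.Core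
  Cfsg.Agent.Tits.Exchange Cfsg.Agent.Nodes.Reps Cfsg.Agent.Nodes.BNOf Cfsg.Agent.Nodes.StabComb
  Cfsg.Agent.Nodes.Bruhat Cfsg.Agent.Nodes.LeviDec Cfsg.Agent.Nodes.NormalForm Cfsg.Agent.Nodes.CardSup
  Cfsg.Agent.H612.WModel Cfsg.Agent.H81.PJSum Cfsg.Agent.H81.PJTab

section gen

variable {I W Y : Type*} [Fintype I] [DecidableEq I] [Group W] [Group Y] {M : CoxeterMatrix I}
  {cs : CoxeterSystem M W} {A : I → I → ℤ} {h : IsCartan M A} {p : ℕ} {T : Subgroup Y} {n : I → Y}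
  {X : (I → ℤ) → Subgroup Y} (R : RGD cs h p T n X)

include R

theorem n_mem_of {Z : Subgroup Y} (hT : T ≤ Z) {i : I} (h1 : X (sr i) ≤ Z) (h2 : X (-sr i) ≤ Z) : n i ∈ Z := by
  obtain ⟨u, hu, hu1⟩ := exists_ne_one R i
  have h3 : n i * u * (n i)⁻¹ ∈ X (-sr i) := by
    have := R.conj_mem (rp_simple cs R.nsys i) (isRoot_sr cs h i) hu
    rwa [rep_simple_sr] at this
  have h4 : n i * u * (n i)⁻¹ ≠ 1 := fun h3 => hu1 (mul_eq_left.1 (mul_inv_eq_one.1 h3))
  obtain ⟨a, ha, t, ht, b, hb, e⟩ := R.rk1 i _ h3 h4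
  have h5 : n i = (a * t)⁻¹ * (n i * u * (n i)⁻¹) * b⁻¹ := by
    conv_rhs => rw [e]
    group
  rw [h5]
  exact mul_mem (mul_mem (inv_mem (mul_mem (h1 ha) (hT ht))) (h2 h3)) (inv_mem (h1 hb))

theorem rp_mem_of {Z : Subgroup Y} (hT : T ≤ Z) {J : Set I} (hJ : ∀ j ∈ J, n j ∈ Z) {w : W} (hw : w ∈ WJ cs J)
    {g : Y} (hg : Rp cs R.nsys w g) : g ∈ Z := by
  obtain ⟨ω, hω, rfl⟩ := exists_word_of_mem_WJ cs hw
  clear hw
  induction ω generalizing g with
  | nil =>
    rw [wordProd_nil] at hg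
    exact hT hg.mem_of_one
  | cons i ω ih =>
    have hω' : ∀ j ∈ ω, j ∈ J := fun j hj => hω j (by simp [hj])
    rw [wordProd_cons] at hg
    have h1 : Rp cs R.nsys (cs.wordProd ω) ((n i)⁻¹ * g) := by
      have := (rp_simple cs R.nsys i).inv.mul hg
      rwa [inv_mul_cancel_left] at this
    have h2 := ih hω' h1
    have h3 : g = n i * ((n i)⁻¹ * g) := by group
    rw [h3]
    exact mul_mem (hJ i (hω i (by simp))) h2

/-- **generators of the Levi subgroup** -/
theorem LJ_le_of [Finite W] {Z : Subgroup Y} {J : Set I} (hT : T ≤ Z) (hX : ∀ j ∈ J, X (sr j) ≤ Z ∧ X (-sr j) ≤ Z) :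
    LJ cs h T X J ≤ Z := by
  refine sup_le hT (RGD.Sup_le fun x hx => ?_)
  obtain ⟨v, hv, j, hj, rfl⟩ := exists_of_mem_RootsJ hx
  obtain ⟨g, hg⟩ := exists_rp cs R.nsys v
  have hgZ : g ∈ Z := rp_mem_of R hT (fun j hj => n_mem_of R hT (hX j hj).1 (hX j hj).2) hv hg
  intro u hu
  rw [← R.conj_rp hg (isRoot_sr cs h j), mem_cj] at hu
  have h2 := mul_mem (mul_mem hgZ ((hX j hj).1 hu)) (inv_mem hgZ)
  have h3 : g * (g⁻¹ * u * g) * g⁻¹ = u := by group
  rwa [h3] at h2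

omit R in
theorem GG_eq_PJ [Finite W] (R : RGD cs h p T n X) : PJ cs h T X Set.univ = GG cs h T X := by
  ext g
  rw [mem_PJ_iff_cell R, mem_GG R]
  exact ⟨fun ⟨w, _, hc⟩ => ⟨w, hc⟩, fun ⟨w, hc⟩ => ⟨w, mem_univ' cs w, hc⟩⟩

omit R in
theorem card_sup_dvd {G : Type*} [Group G] [Finite G] {K H : Subgroup G}
    (h : H ≤ Subgroup.normalizer (K : Set G)) : Nat.card (H ⊔ K : Subgroup G) ∣ Nat.card H * Nat.card K := by
  have hKn : (K.subgroupOf (K ⊔ H)).Normal :=
    Subgroup.normal_subgroupOf_of_le_normalizer (sup_le Subgroup.le_normalizer h)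
  have h1 := Subgroup.relIndex_sup_left (H.subgroupOf (K ⊔ H)) (K.subgroupOf (K ⊔ H))
  rw [← Subgroup.subgroupOf_sup le_sup_left le_sup_right, Subgroup.subgroupOf_self,
    Subgroup.relIndex_subgroupOf le_sup_right, Subgroup.relIndex_top_right] at h1
  have h2 : Nat.card K * K.relIndex H = Nat.card (K ⊔ H : Subgroup G) := by
    rw [← h1, Subgroup.index_eq_card, ← Subgroup.card_mul_index (K.subgroupOf (K ⊔ H)), Subgroup.index_eq_card,
      Nat.card_congr (Subgroup.subgroupOfEquivOfLe (le_sup_left : K ≤ K ⊔ H)).toEquiv]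
  rw [sup_comm, ← h2, mul_comm (Nat.card H)]
  exact mul_dvd_mul_left _ (Subgroup.relIndex_dvd_card _ _)

end gen

section tab

variable {l : ℕ} {W Y : Type*} [Group W] [Group Y] {M : CoxeterMatrix (Fin l)}
  {cs : CoxeterSystem M W} {A : Fin l → Fin l → ℤ} {h : IsCartan M A} {p : ℕ} {T : Subgroup Y} {n : Fin l → Y}
  {X : (Fin l → ℤ) → Subgroup Y} {Al : List (List ℤ)} {J : List (Fin l)} {l0 : List ℤ}
  {Tb : List (List ℤ × List (Fin l))}

/-- **The sum over `W_J` factorises.** -/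
theorem sum_tab_eq (R : RGD cs h p T n X) [Finite W] (hA : ∀ i j : Fin l, (Al.getD i []).getD j 0 = A i j)
    (hc : chk l Al J l0 Tb = true) [Fintype ↥(WJ cs {j | j ∈ J})] [Fintype ↥(WJ cs {i | toF l l0 i = 0})] :
    ∑ w : ↥(WJ cs {j | j ∈ J}), Nat.card ↥(RGD.Sup X (NW cs h (w : W))) =
      (∑ v : ↥(WJ cs {i | toF l l0 i = 0}), Nat.card ↥(RGD.Sup X (NW cs h (v : W)))) *
        ∑ a : Fin Tb.length, Nat.card ↥(RGD.Sup X (NW cs h (cs.wordProd (Tb.get a).2))) := by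
  classical
  have O := ok_of_chk hc
  have h0 : ∀ i, 0 ≤ toF l l0 i := by
    intro i
    unfold toF
    have h1 : (i : ℕ) < l0.length := by rw [O.len0]; exact i.2
    rw [List.getD_eq_getElem _ _ h1]
    exact O.nn _ (List.getElem_mem _)
  have hsp := fun e he => O.spec (cs := cs) (h := h) hA e.2.length e he rfl
  refine sum_eq R (ι := Fin Tb.length) (fun a => cs.wordProd (Tb.get a).2) (l := toF l l0) (J := {j | j ∈ J}) h0
    (fun i hi => O.zero i hi) (fun a => (hsp _ (List.get_mem _ _)).2.1) (fun a => (hsp _ (List.get_mem _ _)).2.2.1)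
    (fun a b hab => ?_) (fun w hw => ?_)
  · have h1 : toF l (Tb.get a).1 = toF l (Tb.get b).1 := by
      rw [← (hsp _ (List.get_mem _ _)).1, ← (hsp _ (List.get_mem _ _)).1]
      exact hab
    have h2 := toF_inj (O.len_tab _ _ (List.get_mem _ _) rfl) (O.len_tab _ _ (List.get_mem _ _) rfl) h1
    have h3 := List.nodup_iff_injective_get.1 O.nodup
    have h4 : (Tb.map Prod.fst).get ⟨a, by rw [List.length_map]; exact a.2⟩ =
        (Tb.map Prod.fst).get ⟨b, by rw [List.length_map]; exact b.2⟩ := by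
      simp only [List.get_eq_getElem, List.getElem_map]
      exact h2
    have h5 := h3 h4
    rw [Fin.mk.injEq] at h5
    exact Fin.ext h5
  · -- every functional of the orbit is in the table
    obtain ⟨e0, he0, hb0⟩ := O.base
    have hex : ∃ e ∈ Tb, fl cs h (toF l l0) w = toF l e.1 := by
      obtain ⟨ω, hω, rfl⟩ := exists_word_of_mem_WJ cs hw
      clear hw
      induction ω using List.reverseRecOn with
      | nil =>
        refine ⟨e0, he0, ?_⟩
        rw [wordProd_nil, fl_one, hb0]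
      | append_singleton ω j ih =>
        obtain ⟨e, he, h1⟩ := ih (fun i hi => hω i (List.mem_append_left _ hi))
        have hj : j ∈ J := hω j (by simp)
        obtain ⟨e', he', h2⟩ := O.cl e he j hj
        refine ⟨e', he', ?_⟩
        rw [wordProd_append, wordProd_singleton, fl_mul_simple, h1, h2,
          O.toF_fire hA (O.len_tab _ e he rfl)]
    obtain ⟨e, he, h1⟩ := hex
    obtain ⟨a, rfl⟩ := List.mem_iff_get.1 he
    exact ⟨a, by rw [h1]; exact ((hsp _ (List.get_mem _ _)).1).symm⟩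

/-- **a Levi subgroup of odd index** -/
theorem odd_index_LJ (R : RGD cs h p T n X) [Finite W] [Finite Y] [hp : Fact p.Prime] (hp2 : p ≠ 2)
    (hG : GG cs h T X = ⊤) (hA : ∀ i j : Fin l, (Al.getD i []).getD j 0 = A i j) (hJ : ∀ j, j ∈ J)
    (hc : chk l Al J l0 Tb = true) (hodd : Odd Tb.length) :
    Odd (LJ cs h T X {i | toF l l0 i = 0}).index := by
  classical
  have hJ' : {j | j ∈ J} = (Set.univ : Set (Fin l)) := Set.eq_univ_iff_forall.2 hJ
  have hf1 : Fintype ↥(WJ cs {j | j ∈ J}) := Fintype.ofFinite _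
  have hf2 : Fintype ↥(WJ cs {i | toF l l0 i = 0}) := Fintype.ofFinite _
  have hpo : Odd p := hp.out.odd_of_ne_two hp2
  have hsub : ∀ H : Subgroup Y, H ≤ RGD.Sup X (RGD.Pos cs h) → Odd (Nat.card ↥H) := by
    intro H hH
    obtain ⟨k, hk⟩ := (IsPGroup.iff_card (p := p)).1 (R.isPGroup_Upos.to_le hH)
    rw [hk]
    exact hpo.pow
  have h1 := Cfsg.Agent.H296.FFourPar.card_PJ_gen R {j | j ∈ J}
  have h2 := Cfsg.Agent.H296.FFourPar.card_PJ_gen R {i | toF l l0 i = 0}
  rw [sum_tab_eq R hA hc, ← mul_assoc, ← h2] at h1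
  have h3 : Nat.card ↥(PJ cs h T X {j | j ∈ J}) = Nat.card Y := by
    rw [hJ', GG_eq_PJ R, hG, Subgroup.card_top]
  have h4 : Odd (∑ a : Fin Tb.length, Nat.card ↥(RGD.Sup X (NW cs h (cs.wordProd (Tb.get a).2)))) := by
    rw [Finset.odd_sum_iff_odd_card_odd]
    have h5 : (Finset.univ.filter fun a : Fin Tb.length =>
        Odd (Nat.card ↥(RGD.Sup X (NW cs h (cs.wordProd (Tb.get a).2))))) = Finset.univ := by
      rw [Finset.filter_true_of_mem]
      intro a _
      exact hsub _ (RGD.Sup_mono fun x hx => ⟨hx.1, hx.2.1⟩)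
    rw [h5, Finset.card_univ, Fintype.card_fin]
    exact hodd
  have h6 : Nat.card ↥(PJ cs h T X {i | toF l l0 i = 0}) ∣
      Nat.card ↥(LJ cs h T X {i | toF l l0 i = 0}) * Nat.card ↥(VJ cs h X {i | toF l l0 i = 0}) :=
    card_sup_dvd (LJ_le_normalizer_VJ R _)
  have h7 : (LJ cs h T X {i | toF l l0 i = 0}).index ∣ Nat.card ↥(VJ cs h X {i | toF l l0 i = 0}) *
      ∑ a : Fin Tb.length, Nat.card ↥(RGD.Sup X (NW cs h (cs.wordProd (Tb.get a).2))) := by
    have h8 := Subgroup.card_mul_index (LJ cs h T X {i | toF l l0 i = 0})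
    rw [← h3, h1] at h8
    refine Nat.dvd_of_mul_dvd_mul_left (Nat.card_pos (α := ↥(LJ cs h T X {i | toF l l0 i = 0}))) ?_
    rw [h8, ← mul_assoc]
    exact Nat.mul_dvd_mul_right h6 _
  exact Odd.of_dvd_nat ((hsub _ (VJ_le_U _)).mul h4) h7

end tab

end Cfsg.Agent.H618.AO
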